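import Cfsg.Agent.Spor.J3h.D0

set_option autoImplicit false
set_option maxRecDepth 100000000
set_option Elab.async false

namespace Cfsg.Agent.Spor.J3h

theorem ok0 : Net.okb 15 n0 = true := by decide +kernel

theorem ok1 : Net.okb 15 n1 = true := by decide +kernel

theorem ok2 : Net.okb 15 n2 = true := by decide +kernel

theorem ok3 : Net.okb 15 n3 = true := by decide +kernel

theorem ok4 : Net.okb 15 n4 = true := by decide +kernel

theorem ok5 : Net.okb 15 n5 = true := by decide +kernel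

theorem ok6 : Net.okb 15 n6 = true := by decide +kernel

theorem ok7 : Net.okb 15 n7 = true := by decide +kernel

theorem ok8 : Net.okb 15 n8 = true := by decide +kernel

theorem ok9 : Net.okb 15 n9 = true := by decide +kernel

theorem ok10 : Net.okb 15 n10 = true := by decide +kernel

theorem ok11 : Net.okb 15 n11 = true := by decide +kernel

theorem rel0 : T.rel 15 [1, 1] 0 15 = true := by decide +kernel

theorem rel1 : T.rel 15 [2, 2] 0 15 = true := by decide +kernel

theorem rel2 : T.rel 15 [3, 3] 0 15 = true := by decide +kernel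

theorem rel3 : T.rel 15 [4, 4] 0 15 = true := by decide +kernel

theorem rel4 : T.rel 15 [5, 5] 0 15 = true := by decide +kernel

theorem rel5 : T.rel 15 [6, 6] 0 15 = true := by decide +kernel

theorem rel6 : T.rel 15 [7, 7] 0 15 = true := by decide +kernel

theorem rel7 : T.rel 15 [8, 8] 0 15 = true := by decide +kernel

theorem rel8 : T.rel 15 [9, 9] 0 15 = true := by decide +kernel

theorem rel9 : T.rel 15 [10, 10] 0 15 = true := by decide +kernel

theorem rel10 : T.rel 15 [11, 11] 0 15 = true := by decide +kernel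

theorem rel11 : T.rel 15 [5, 2, 1, 2, 1] 0 15 = true := by decide +kernel

theorem rel12 : T.rel 15 [5, 3, 1, 3, 1] 0 15 = true := by decide +kernel

theorem rel13 : T.rel 15 [5, 4, 1, 4, 1] 0 15 = true := by decide +kernel

theorem rel14 : T.rel 15 [5, 3, 2, 3, 2] 0 15 = true := by decide +kernel

theorem rel15 : T.rel 15 [5, 4, 2, 4, 2] 0 15 = true := by decide +kernel

theorem rel16 : T.rel 15 [5, 4, 3, 4, 3] 0 15 = true := by decide +kernel

theorem rel17 : T.rel 15 [5, 1, 5, 1] 0 15 = true := by decide +kernel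

theorem rel18 : T.rel 15 [5, 2, 5, 2] 0 15 = true := by decide +kernel

theorem rel19 : T.rel 15 [5, 3, 5, 3] 0 15 = true := by decide +kernel

theorem rel20 : T.rel 15 [5, 4, 5, 4] 0 15 = true := by decide +kernel

theorem rel21 : T.rel 15 [12, 12, 12] 0 15 = true := by decide +kernel

theorem rel22 : T.rel 15 [6, 12, 6, 12, 6, 12] 0 15 = true := by decide +kernel

theorem rel23 : T.rel 15 [7, 6, 7, 6, 7, 6] 0 15 = true := by decide +kernel

theorem rel24 : T.rel 15 [7, 12, 7, 12] 0 15 = true := by decide +kernel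

theorem rel25 : T.rel 15 [1, 6, 1, 6] 0 15 = true := by decide +kernel

theorem rel26 : T.rel 15 [3, 6, 2, 6] 0 15 = true := by decide +kernel

theorem rel27 : T.rel 15 [8, 6, 4, 6] 0 15 = true := by decide +kernel

theorem rel28 : T.rel 15 [5, 6, 5, 6] 0 15 = true := by decide +kernel

theorem rel29 : T.rel 15 [8, 7, 1, 7] 0 15 = true := by decide +kernel

theorem rel30 : T.rel 15 [3, 7, 2, 7] 0 15 = true := by decide +kernel

theorem rel31 : T.rel 15 [4, 7, 4, 7] 0 15 = true := by decide +kernel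

theorem rel32 : T.rel 15 [5, 7, 5, 7] 0 15 = true := by decide +kernel

theorem rel33 : T.rel 15 [1, 13, 1, 12] 0 15 = true := by decide +kernel

theorem rel34 : T.rel 15 [3, 13, 2, 12] 0 15 = true := by decide +kernel

theorem rel35 : T.rel 15 [4, 13, 3, 12] 0 15 = true := by decide +kernel

theorem rel36 : T.rel 15 [2, 13, 4, 12] 0 15 = true := by decide +kernel

theorem rel37 : T.rel 15 [5, 13, 5, 12] 0 15 = true := by decide +kernel

theorem rel38 : T.rel 15 [4, 3, 2, 1, 8] 0 15 = true := by decide +kernel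

theorem rel39 : T.rel 15 [1, 9, 5, 9] 0 15 = true := by decide +kernel

theorem rel40 : T.rel 15 [13, 9, 12, 9] 0 15 = true := by decide +kernel

theorem rel41 : T.rel 15 [8, 9, 8, 9, 8, 9] 0 15 = true := by decide +kernel

theorem rel42 : T.rel 15 [4, 6, 2, 9, 3, 2, 9] 0 15 = true := by decide +kernel

theorem rel43 : T.rel 15 [6, 10, 5, 10] 0 15 = true := by decide +kernel

theorem rel44 : T.rel 15 [13, 6, 12, 10, 1, 10] 0 15 = true := by decide +kernel

theorem rel45 : T.rel 15 [9, 8, 13, 10, 12, 10] 0 15 = true := by decide +kernel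

theorem rel46 : T.rel 15 [8, 6, 8, 10, 8, 6, 8, 10, 8, 6, 8, 10] 0 15 = true := by decide +kernel

theorem rel47 : T.rel 15 [10, 8, 10, 8, 10, 11] 0 15 = true := by decide +kernel

theorem rel48 : T.rel 15 [9, 11, 9, 11, 9, 11] 0 15 = true := by decide +kernel

theorem rel49 : T.rel 15 [11, 8, 5, 11, 7, 9, 7] 0 15 = true := by decide +kernel

theorem rel50 : T.rel 15 [7, 11, 7, 7, 11, 7] 0 15 = true := by decide +kernel

theorem rel51 : T.rel 15 [1, 8, 11, 7, 13, 8, 9, 7, 11, 8, 1, 7, 11, 8, 1, 13, 8, 9, 1, 8, 11, 7, 1, 8, 11, 7, 9, 8, 12, 7, 11, 8, 1, 7, 11, 8, 1, 9, 8, 12, 1, 8, 11, 7] 0 15 = true := by decide +kernel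

theorem rel52 : T.rel 15 [1, 8, 11, 7, 13, 8, 9, 13, 8, 9, 13, 8, 9, 7, 11, 8, 1] 0 15 = true := by decide +kernel

theorem rel53 : T.rel 15 [13, 8, 9, 1, 8, 11, 7, 13, 8, 9, 7, 11, 8, 1, 9, 8, 12, 1, 8, 11, 7, 9, 8, 12, 7, 11, 8, 1] 0 15 = true := by decide +kernel

theorem rel54 : T.rel 15 [13, 8, 9, 7, 11, 8, 1, 13, 8, 9, 1, 8, 11, 7, 9, 8, 12, 7, 11, 8, 1, 9, 8, 12, 1, 8, 11, 7] 0 15 = true := by decide +kernel

theorem rel55 : T.rel 15 [13, 8, 9, 13, 8, 9, 13, 8, 9] 0 15 = true := by decide +kernel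

theorem rel56 : T.rel 15 [7, 11, 8, 1, 13, 8, 9, 13, 8, 9, 13, 8, 9, 1, 8, 11, 7] 0 15 = true := by decide +kernel

theorem rel57 : T.rel 15 [7, 11, 7, 1, 8, 11, 7, 7, 11, 7, 1, 8, 11, 7] 0 15 = true := by decide +kernel

theorem rel58 : T.rel 15 [7, 11, 7, 13, 8, 9, 7, 11, 7, 13, 8, 9, 7, 11, 7, 13, 8, 9, 7, 11, 7, 7, 11, 8, 1, 13, 8, 9, 1, 8, 11, 7, 1, 8, 11, 7, 9, 8, 12, 7, 11, 8, 1] 0 15 = true := by decide +kernel

theorem rel59 : T.rel 15 [7, 11, 7, 13, 8, 9, 7, 11, 8, 1, 9, 8, 12, 7, 11, 7, 9, 8, 12, 1, 8, 11, 7, 13, 8, 9, 7, 11, 7, 7, 11, 8, 1, 13, 8, 9, 1, 8, 11, 7] 0 15 = true := by decide +kernel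

theorem rel60 : T.rel 15 [1, 8, 11, 7, 13, 8, 9, 10, 8, 10, 8, 10, 8, 7, 11, 8, 1, 13, 8, 9] 0 15 = true := by decide +kernel

theorem rel61 : T.rel 15 [1, 8, 11, 7, 13, 8, 9, 7, 11, 8, 1, 10, 8, 10, 8, 13, 8, 9, 10, 8] 0 15 = true := by decide +kernel

theorem rel62 : T.rel 15 [1, 8, 11, 7, 10, 8, 10, 8, 10, 8, 13, 8, 9, 7, 11, 8, 1, 13, 8, 9] 0 15 = true := by decide +kernel

theorem rel63 : T.rel 15 [13, 8, 9, 8, 10, 7, 11, 7, 10, 8, 9, 8, 12, 8, 10, 7, 11, 7, 10, 8] 0 15 = true := by decide +kernel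

theorem rel64 : T.rel 15 [13, 8, 9, 8, 10, 1, 8, 11, 7, 10, 8, 13, 8, 9, 8, 10, 7, 11, 8, 1, 10, 8] 0 15 = true := by decide +kernel

theorem rel65 : T.rel 15 [8, 10, 7, 11, 7, 9, 8, 12, 8, 10, 9, 8, 12, 10, 8, 7, 11, 7, 10, 8, 9, 8, 12] 0 15 = true := by decide +kernel

theorem rel66 : T.rel 15 [1, 8, 11, 7, 10, 8, 1, 8, 11, 7, 8, 10, 7, 11, 8, 1, 7, 11, 8, 1, 10, 8, 13, 8, 9] 0 15 = true := by decide +kernel

theorem rel67 : T.rel 15 [7, 11, 7, 8, 10, 7, 11, 7, 8, 10, 7, 11, 7, 8, 10, 7, 11, 7, 8, 10] 0 15 = true := by decide +kernel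

theorem rel68 : T.rel 15 [8, 10, 7, 11, 7, 8, 10, 8, 10, 7, 11, 7, 8, 10, 8, 10, 7, 11, 7, 8, 10, 8, 10, 7, 11, 7, 8, 10, 7, 11, 8, 1, 7, 11, 8, 1, 7, 11, 8, 1, 7, 11, 8, 1, 7, 11, 7] 0 15 = true := by decide +kernel

theorem rel69 : T.rel 15 [8, 10, 7, 11, 7, 1, 8, 11, 7, 10, 8, 7, 11, 7, 9, 8, 12, 8, 10, 7, 11, 7, 1, 8, 11, 7, 10, 8, 7, 11, 7, 8, 10, 7, 11, 8, 1, 7, 11, 7, 10, 8, 13, 8, 9, 7, 11, 7, 9, 8, 12] 0 15 = true := by decide +kernel

theorem hcov : T.treeCov (ones 26163) L 1 = true := by decide +kernel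

theorem hg : lall (fun z => band (memL L z) (band (sub (ones 26163) (T.let z).cl) (T.closed (ones 26163) z))) gs = true := by decide +kernel

theorem rot1_1 : T.rot 1 [1] (sel (ones 26163) ip1 1) = true := by decide +kernel

theorem rot1_1r : band (Rule.ok (2 * 11) EX RL ⟨1 :: [1], [], 39, false⟩) (lall (memL L) [1]) = true := by decide +kernel

theorem rot1_2 : T.rot 1 [5, 1, 5] (sel (ones 26163) ip1 2) = true := by decide +kernel

theorem rot1_2r : band (Rule.ok (2 * 11) EX RL ⟨1 :: [5, 1, 5], [], 6, false⟩) (lall (memL L) [5, 1, 5]) = true := by decide +kernel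

theorem rot1_3 : T.rot 1 [6, 1, 6] (sel (ones 26163) ip1 3) = true := by decide +kernel

theorem rot1_3r : band (Rule.ok (2 * 11) EX RL ⟨1 :: [6, 1, 6], [], 14, true⟩) (lall (memL L) [6, 1, 6]) = true := by decide +kernel

theorem rot1_4 : T.rot 1 [7, 8, 7] (sel (ones 26163) ip1 4) = true := by decide +kernel

theorem rot1_4r : band (Rule.ok (2 * 11) EX RL ⟨1 :: [7, 8, 7], [12], 18, false⟩) (lall (memL L) [7, 8, 7]) = true := by decide +kernel

theorem rot1_5 : T.rot 1 [13, 1, 12] (sel (ones 26163) ip1 5) = true := by decide +kernel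

theorem rot1_5r : band (Rule.ok (2 * 11) EX RL ⟨1 :: [13, 1, 12], [], 22, true⟩) (lall (memL L) [13, 1, 12]) = true := by decide +kernel

theorem rot1_6 : T.rot 1 [12, 1, 13] (sel (ones 26163) ip1 6) = true := by decide +kernel

theorem rot1_6r : band (Rule.ok (2 * 11) EX RL ⟨1 :: [12, 1, 13], [22], 22, false⟩) (lall (memL L) [12, 1, 13]) = true := by decide +kernel

theorem rot1_7 : T.rot 1 [9, 5, 9] (sel (ones 26163) ip1 7) = true := by decide +kernel

theorem rot1_7r : band (Rule.ok (2 * 11) EX RL ⟨1 :: [9, 5, 9], [], 28, true⟩) (lall (memL L) [9, 5, 9]) = true := by decide +kernel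

theorem rot1_8 : T.rot 1 [2, 1, 5, 2] (sel (ones 26163) ip1 8) = true := by decide +kernel

theorem rot1_8r : band (Rule.ok (2 * 11) EX RL ⟨1 :: [2, 1, 5, 2], [8, 2], 0, true⟩) (lall (memL L) [2, 1, 5, 2]) = true := by decide +kernel

theorem rot1_9 : T.rot 1 [5, 2, 1, 2] (sel (ones 26163) ip1 9) = true := by decide +kernel

theorem rot1_9r : band (Rule.ok (2 * 11) EX RL ⟨1 :: [5, 2, 1, 2], [0], 0, true⟩) (lall (memL L) [5, 2, 1, 2]) = true := by decide +kernel

theorem rot1_10 : T.rot 1 [2, 1, 2, 5] (sel (ones 26163) ip1 10) = true := by decide +kernel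

theorem rot1_10r : band (Rule.ok (2 * 11) EX RL ⟨1 :: [2, 1, 2, 5], [], 0, false⟩) (lall (memL L) [2, 1, 2, 5]) = true := by decide +kernel

theorem rot1_11 : T.rot 1 [2, 5, 1, 2] (sel (ones 26163) ip1 11) = true := by decide +kernel

theorem rot1_11r : band (Rule.ok (2 * 11) EX RL ⟨1 :: [2, 5, 1, 2], [0, 2], 0, false⟩) (lall (memL L) [2, 5, 1, 2]) = true := by decide +kernel

theorem rot1_12 : T.rot 1 [3, 1, 5, 3] (sel (ones 26163) ip1 12) = true := by decide +kernel

theorem rot1_12r : band (Rule.ok (2 * 11) EX RL ⟨1 :: [3, 1, 5, 3], [8, 4], 1, true⟩) (lall (memL L) [3, 1, 5, 3]) = true := by decide +kernel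

theorem rot1_13 : T.rot 1 [5, 3, 1, 3] (sel (ones 26163) ip1 13) = true := by decide +kernel

theorem rot1_13r : band (Rule.ok (2 * 11) EX RL ⟨1 :: [5, 3, 1, 3], [0], 1, true⟩) (lall (memL L) [5, 3, 1, 3]) = true := by decide +kernel

theorem rot1_14 : T.rot 1 [3, 1, 3, 5] (sel (ones 26163) ip1 14) = true := by decide +kernel

theorem rot1_14r : band (Rule.ok (2 * 11) EX RL ⟨1 :: [3, 1, 3, 5], [], 1, false⟩) (lall (memL L) [3, 1, 3, 5]) = true := by decide +kernel

theorem rot1_15 : T.rot 1 [3, 5, 1, 3] (sel (ones 26163) ip1 15) = true := by decide +kernel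

theorem rot1_15r : band (Rule.ok (2 * 11) EX RL ⟨1 :: [3, 5, 1, 3], [0, 4], 1, false⟩) (lall (memL L) [3, 5, 1, 3]) = true := by decide +kernel

theorem rot1_16 : T.rot 1 [4, 1, 5, 4] (sel (ones 26163) ip1 16) = true := by decide +kernel

theorem rot1_16r : band (Rule.ok (2 * 11) EX RL ⟨1 :: [4, 1, 5, 4], [8, 6], 2, true⟩) (lall (memL L) [4, 1, 5, 4]) = true := by decide +kernel

theorem rot1_17 : T.rot 1 [5, 4, 1, 4] (sel (ones 26163) ip1 17) = true := by decide +kernel

theorem rot1_17r : band (Rule.ok (2 * 11) EX RL ⟨1 :: [5, 4, 1, 4], [0], 2, true⟩) (lall (memL L) [5, 4, 1, 4]) = true := by decide +kernel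

theorem rot1_18 : T.rot 1 [4, 1, 4, 5] (sel (ones 26163) ip1 18) = true := by decide +kernel

theorem rot1_18r : band (Rule.ok (2 * 11) EX RL ⟨1 :: [4, 1, 4, 5], [], 2, false⟩) (lall (memL L) [4, 1, 4, 5]) = true := by decide +kernel

theorem rot1_19 : T.rot 1 [4, 5, 1, 4] (sel (ones 26163) ip1 19) = true := by decide +kernel

theorem rot1_19r : band (Rule.ok (2 * 11) EX RL ⟨1 :: [4, 5, 1, 4], [0, 6], 2, false⟩) (lall (memL L) [4, 5, 1, 4]) = true := by decide +kernel

theorem rot1_20 : T.rot 1 [8, 4, 3, 2] (sel (ones 26163) ip1 20) = true := by decide +kernel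

theorem rot1_20r : band (Rule.ok (2 * 11) EX RL ⟨1 :: [8, 4, 3, 2], [14, 0], 27, true⟩) (lall (memL L) [8, 4, 3, 2]) = true := by decide +kernel

theorem rot1_21 : T.rot 1 [2, 3, 4, 8] (sel (ones 26163) ip1 21) = true := by decide +kernel

theorem rot1_21r : band (Rule.ok (2 * 11) EX RL ⟨1 :: [2, 3, 4, 8], [14], 27, false⟩) (lall (memL L) [2, 3, 4, 8]) = true := by decide +kernel

theorem rot1_22 : T.rot 1 [10, 13, 6, 12, 10] (sel (ones 26163) ip1 22) = true := by decide +kernel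

theorem rot1_22r : band (Rule.ok (2 * 11) EX RL ⟨1 :: [10, 13, 6, 12, 10], [18], 33, false⟩) (lall (memL L) [10, 13, 6, 12, 10]) = true := by decide +kernel

theorem cov1 : T.cover 1 [(sel (ones 26163) ip1 1), (sel (ones 26163) ip1 2), (sel (ones 26163) ip1 3), (sel (ones 26163) ip1 4), (sel (ones 26163) ip1 5), (sel (ones 26163) ip1 6), (sel (ones 26163) ip1 7), (sel (ones 26163) ip1 8), (sel (ones 26163) ip1 9), (sel (ones 26163) ip1 10), (sel (ones 26163) ip1 11), (sel (ones 26163) ip1 12), (sel (ones 26163) ip1 13), (sel (ones 26163) ip1 14), (sel (ones 26163) ip1 15), (sel (ones 26163) ip1 16), (sel (ones 26163) ip1 17), (sel (ones 26163) ip1 18), (sel (ones 26163) ip1 19), (sel (ones 26163) ip1 20), (sel (ones 26163) ip1 21), (sel (ones 26163) ip1 22), 1] = true := by decide +kernel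

theorem tl1 : T.treeLt 15 1 = true := by decide +kernel

theorem rot2_1 : T.rot 2 [2] (sel (ones 26163) ip2 1) = true := by decide +kernel

theorem rot2_1r : band (Rule.ok (2 * 11) EX RL ⟨2 :: [2], [], 39, false⟩) (lall (memL L) [2]) = true := by decide +kernel

theorem rot2_2 : T.rot 2 [5, 2, 5] (sel (ones 26163) ip2 2) = true := by decide +kernel

theorem rot2_2r : band (Rule.ok (2 * 11) EX RL ⟨2 :: [5, 2, 5], [], 7, false⟩) (lall (memL L) [5, 2, 5]) = true := by decide +kernel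

theorem rot2_3 : T.rot 2 [6, 3, 6] (sel (ones 26163) ip2 3) = true := by decide +kernel

theorem rot2_3r : band (Rule.ok (2 * 11) EX RL ⟨2 :: [6, 3, 6], [10], 15, false⟩) (lall (memL L) [6, 3, 6]) = true := by decide +kernel

theorem rot2_4 : T.rot 2 [7, 3, 7] (sel (ones 26163) ip2 4) = true := by decide +kernel

theorem rot2_4r : band (Rule.ok (2 * 11) EX RL ⟨2 :: [7, 3, 7], [12], 19, false⟩) (lall (memL L) [7, 3, 7]) = true := by decide +kernel

theorem rot2_5 : T.rot 2 [12, 3, 13] (sel (ones 26163) ip2 5) = true := by decide +kernel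

theorem rot2_5r : band (Rule.ok (2 * 11) EX RL ⟨2 :: [12, 3, 13], [22], 23, false⟩) (lall (memL L) [12, 3, 13]) = true := by decide +kernel

theorem rot2_6 : T.rot 2 [13, 4, 12] (sel (ones 26163) ip2 6) = true := by decide +kernel

theorem rot2_6r : band (Rule.ok (2 * 11) EX RL ⟨2 :: [13, 4, 12], [], 25, true⟩) (lall (memL L) [13, 4, 12]) = true := by decide +kernel

theorem rot2_7 : T.rot 2 [1, 2, 1, 5] (sel (ones 26163) ip2 7) = true := by decide +kernel

theorem rot2_7r : band (Rule.ok (2 * 11) EX RL ⟨2 :: [1, 2, 1, 5], [8], 0, true⟩) (lall (memL L) [1, 2, 1, 5]) = true := by decide +kernel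

theorem rot2_8 : T.rot 2 [1, 5, 2, 1] (sel (ones 26163) ip2 8) = true := by decide +kernel

theorem rot2_8r : band (Rule.ok (2 * 11) EX RL ⟨2 :: [1, 5, 2, 1], [0, 2], 0, true⟩) (lall (memL L) [1, 5, 2, 1]) = true := by decide +kernel

theorem rot2_9 : T.rot 2 [1, 2, 5, 1] (sel (ones 26163) ip2 9) = true := by decide +kernel

theorem rot2_9r : band (Rule.ok (2 * 11) EX RL ⟨2 :: [1, 2, 5, 1], [0], 0, false⟩) (lall (memL L) [1, 2, 5, 1]) = true := by decide +kernel

theorem rot2_10 : T.rot 2 [5, 1, 2, 1] (sel (ones 26163) ip2 10) = true := by decide +kernel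

theorem rot2_10r : band (Rule.ok (2 * 11) EX RL ⟨2 :: [5, 1, 2, 1], [8, 2], 0, false⟩) (lall (memL L) [5, 1, 2, 1]) = true := by decide +kernel

theorem rot2_11 : T.rot 2 [3, 2, 5, 3] (sel (ones 26163) ip2 11) = true := by decide +kernel

theorem rot2_11r : band (Rule.ok (2 * 11) EX RL ⟨2 :: [3, 2, 5, 3], [8, 4], 3, true⟩) (lall (memL L) [3, 2, 5, 3]) = true := by decide +kernel

theorem rot2_12 : T.rot 2 [5, 3, 2, 3] (sel (ones 26163) ip2 12) = true := by decide +kernel

theorem rot2_12r : band (Rule.ok (2 * 11) EX RL ⟨2 :: [5, 3, 2, 3], [2], 3, true⟩) (lall (memL L) [5, 3, 2, 3]) = true := by decide +kernel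

theorem rot2_13 : T.rot 2 [3, 2, 3, 5] (sel (ones 26163) ip2 13) = true := by decide +kernel

theorem rot2_13r : band (Rule.ok (2 * 11) EX RL ⟨2 :: [3, 2, 3, 5], [], 3, false⟩) (lall (memL L) [3, 2, 3, 5]) = true := by decide +kernel

theorem rot2_14 : T.rot 2 [3, 5, 2, 3] (sel (ones 26163) ip2 14) = true := by decide +kernel

theorem rot2_14r : band (Rule.ok (2 * 11) EX RL ⟨2 :: [3, 5, 2, 3], [2, 4], 3, false⟩) (lall (memL L) [3, 5, 2, 3]) = true := by decide +kernel

theorem rot2_15 : T.rot 2 [4, 2, 5, 4] (sel (ones 26163) ip2 15) = true := by decide +kernel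

theorem rot2_15r : band (Rule.ok (2 * 11) EX RL ⟨2 :: [4, 2, 5, 4], [8, 6], 4, true⟩) (lall (memL L) [4, 2, 5, 4]) = true := by decide +kernel

theorem rot2_16 : T.rot 2 [5, 4, 2, 4] (sel (ones 26163) ip2 16) = true := by decide +kernel

theorem rot2_16r : band (Rule.ok (2 * 11) EX RL ⟨2 :: [5, 4, 2, 4], [2], 4, true⟩) (lall (memL L) [5, 4, 2, 4]) = true := by decide +kernel

theorem rot2_17 : T.rot 2 [4, 2, 4, 5] (sel (ones 26163) ip2 17) = true := by decide +kernel

theorem rot2_17r : band (Rule.ok (2 * 11) EX RL ⟨2 :: [4, 2, 4, 5], [], 4, false⟩) (lall (memL L) [4, 2, 4, 5]) = true := by decide +kernel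

theorem rot2_18 : T.rot 2 [4, 5, 2, 4] (sel (ones 26163) ip2 18) = true := by decide +kernel

theorem rot2_18r : band (Rule.ok (2 * 11) EX RL ⟨2 :: [4, 5, 2, 4], [2, 6], 4, false⟩) (lall (memL L) [4, 5, 2, 4]) = true := by decide +kernel

theorem rot2_19 : T.rot 2 [1, 8, 4, 3] (sel (ones 26163) ip2 19) = true := by decide +kernel

theorem rot2_19r : band (Rule.ok (2 * 11) EX RL ⟨2 :: [1, 8, 4, 3], [6, 4], 27, true⟩) (lall (memL L) [1, 8, 4, 3]) = true := by decide +kernel

theorem rot2_20 : T.rot 2 [3, 4, 8, 1] (sel (ones 26163) ip2 20) = true := by decide +kernel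

theorem rot2_20r : band (Rule.ok (2 * 11) EX RL ⟨2 :: [3, 4, 8, 1], [14, 0], 27, false⟩) (lall (memL L) [3, 4, 8, 1]) = true := by decide +kernel

theorem rot2_21 : T.rot 2 [9, 3, 2, 9, 4, 6] (sel (ones 26163) ip2 21) = true := by decide +kernel

theorem rot2_21r : band (Rule.ok (2 * 11) EX RL ⟨2 :: [9, 3, 2, 9, 4, 6], [6, 10], 31, true⟩) (lall (memL L) [9, 3, 2, 9, 4, 6]) = true := by decide +kernel

theorem rot2_22 : T.rot 2 [9, 4, 6, 2, 9, 3] (sel (ones 26163) ip2 22) = true := by decide +kernel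

theorem rot2_22r : band (Rule.ok (2 * 11) EX RL ⟨2 :: [9, 4, 6, 2, 9, 3], [16, 2], 31, true⟩) (lall (memL L) [9, 4, 6, 2, 9, 3]) = true := by decide +kernel

theorem rot2_23 : T.rot 2 [3, 9, 2, 6, 4, 9] (sel (ones 26163) ip2 23) = true := by decide +kernel

theorem rot2_23r : band (Rule.ok (2 * 11) EX RL ⟨2 :: [3, 9, 2, 6, 4, 9], [16], 31, false⟩) (lall (memL L) [3, 9, 2, 6, 4, 9]) = true := by decide +kernel

theorem rot2_24 : T.rot 2 [6, 4, 9, 2, 3, 9] (sel (ones 26163) ip2 24) = true := by decide +kernel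

theorem rot2_24r : band (Rule.ok (2 * 11) EX RL ⟨2 :: [6, 4, 9, 2, 3, 9], [6, 10, 2], 31, false⟩) (lall (memL L) [6, 4, 9, 2, 3, 9]) = true := by decide +kernel

theorem cov2 : T.cover 2 [(sel (ones 26163) ip2 1), (sel (ones 26163) ip2 2), (sel (ones 26163) ip2 3), (sel (ones 26163) ip2 4), (sel (ones 26163) ip2 5), (sel (ones 26163) ip2 6), (sel (ones 26163) ip2 7), (sel (ones 26163) ip2 8), (sel (ones 26163) ip2 9), (sel (ones 26163) ip2 10), (sel (ones 26163) ip2 11), (sel (ones 26163) ip2 12), (sel (ones 26163) ip2 13), (sel (ones 26163) ip2 14), (sel (ones 26163) ip2 15), (sel (ones 26163) ip2 16), (sel (ones 26163) ip2 17), (sel (ones 26163) ip2 18), (sel (ones 26163) ip2 19), (sel (ones 26163) ip2 20), (sel (ones 26163) ip2 21), (sel (ones 26163) ip2 22), (sel (ones 26163) ip2 23), (sel (ones 26163) ip2 24), 1] = true := by decide +kernel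

theorem tl2 : T.treeLt 15 2 = true := by decide +kernel

theorem rot3_1 : T.rot 3 [3] (sel (ones 26163) ip3 1) = true := by decide +kernel

theorem rot3_1r : band (Rule.ok (2 * 11) EX RL ⟨3 :: [3], [], 39, false⟩) (lall (memL L) [3]) = true := by decide +kernel

theorem rot3_2 : T.rot 3 [5, 3, 5] (sel (ones 26163) ip3 2) = true := by decide +kernel

theorem rot3_2r : band (Rule.ok (2 * 11) EX RL ⟨3 :: [5, 3, 5], [], 8, false⟩) (lall (memL L) [5, 3, 5]) = true := by decide +kernel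

theorem rot3_3 : T.rot 3 [6, 2, 6] (sel (ones 26163) ip3 3) = true := by decide +kernel

theorem rot3_3r : band (Rule.ok (2 * 11) EX RL ⟨3 :: [6, 2, 6], [], 15, true⟩) (lall (memL L) [6, 2, 6]) = true := by decide +kernel

theorem rot3_4 : T.rot 3 [7, 2, 7] (sel (ones 26163) ip3 4) = true := by decide +kernel

theorem rot3_4r : band (Rule.ok (2 * 11) EX RL ⟨3 :: [7, 2, 7], [], 19, true⟩) (lall (memL L) [7, 2, 7]) = true := by decide +kernel

theorem rot3_5 : T.rot 3 [13, 2, 12] (sel (ones 26163) ip3 5) = true := by decide +kernel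

theorem rot3_5r : band (Rule.ok (2 * 11) EX RL ⟨3 :: [13, 2, 12], [], 23, true⟩) (lall (memL L) [13, 2, 12]) = true := by decide +kernel

theorem rot3_6 : T.rot 3 [12, 4, 13] (sel (ones 26163) ip3 6) = true := by decide +kernel

theorem rot3_6r : band (Rule.ok (2 * 11) EX RL ⟨3 :: [12, 4, 13], [22], 24, false⟩) (lall (memL L) [12, 4, 13]) = true := by decide +kernel

theorem rot3_7 : T.rot 3 [1, 3, 1, 5] (sel (ones 26163) ip3 7) = true := by decide +kernel

theorem rot3_7r : band (Rule.ok (2 * 11) EX RL ⟨3 :: [1, 3, 1, 5], [8], 1, true⟩) (lall (memL L) [1, 3, 1, 5]) = true := by decide +kernel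

theorem rot3_8 : T.rot 3 [1, 5, 3, 1] (sel (ones 26163) ip3 8) = true := by decide +kernel

theorem rot3_8r : band (Rule.ok (2 * 11) EX RL ⟨3 :: [1, 5, 3, 1], [0, 4], 1, true⟩) (lall (memL L) [1, 5, 3, 1]) = true := by decide +kernel

theorem rot3_9 : T.rot 3 [1, 3, 5, 1] (sel (ones 26163) ip3 9) = true := by decide +kernel

theorem rot3_9r : band (Rule.ok (2 * 11) EX RL ⟨3 :: [1, 3, 5, 1], [0], 1, false⟩) (lall (memL L) [1, 3, 5, 1]) = true := by decide +kernel

theorem rot3_10 : T.rot 3 [5, 1, 3, 1] (sel (ones 26163) ip3 10) = true := by decide +kernel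

theorem rot3_10r : band (Rule.ok (2 * 11) EX RL ⟨3 :: [5, 1, 3, 1], [8, 4], 1, false⟩) (lall (memL L) [5, 1, 3, 1]) = true := by decide +kernel

theorem rot3_11 : T.rot 3 [2, 3, 2, 5] (sel (ones 26163) ip3 11) = true := by decide +kernel

theorem rot3_11r : band (Rule.ok (2 * 11) EX RL ⟨3 :: [2, 3, 2, 5], [8], 3, true⟩) (lall (memL L) [2, 3, 2, 5]) = true := by decide +kernel

theorem rot3_12 : T.rot 3 [2, 5, 3, 2] (sel (ones 26163) ip3 12) = true := by decide +kernel

theorem rot3_12r : band (Rule.ok (2 * 11) EX RL ⟨3 :: [2, 5, 3, 2], [2, 4], 3, true⟩) (lall (memL L) [2, 5, 3, 2]) = true := by decide +kernel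

theorem rot3_13 : T.rot 3 [2, 3, 5, 2] (sel (ones 26163) ip3 13) = true := by decide +kernel

theorem rot3_13r : band (Rule.ok (2 * 11) EX RL ⟨3 :: [2, 3, 5, 2], [2], 3, false⟩) (lall (memL L) [2, 3, 5, 2]) = true := by decide +kernel

theorem rot3_14 : T.rot 3 [5, 2, 3, 2] (sel (ones 26163) ip3 14) = true := by decide +kernel

theorem rot3_14r : band (Rule.ok (2 * 11) EX RL ⟨3 :: [5, 2, 3, 2], [8, 4], 3, false⟩) (lall (memL L) [5, 2, 3, 2]) = true := by decide +kernel

theorem rot3_15 : T.rot 3 [4, 3, 5, 4] (sel (ones 26163) ip3 15) = true := by decide +kernel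

theorem rot3_15r : band (Rule.ok (2 * 11) EX RL ⟨3 :: [4, 3, 5, 4], [8, 6], 5, true⟩) (lall (memL L) [4, 3, 5, 4]) = true := by decide +kernel

theorem rot3_16 : T.rot 3 [5, 4, 3, 4] (sel (ones 26163) ip3 16) = true := by decide +kernel

theorem rot3_16r : band (Rule.ok (2 * 11) EX RL ⟨3 :: [5, 4, 3, 4], [4], 5, true⟩) (lall (memL L) [5, 4, 3, 4]) = true := by decide +kernel

theorem rot3_17 : T.rot 3 [4, 3, 4, 5] (sel (ones 26163) ip3 17) = true := by decide +kernel

theorem rot3_17r : band (Rule.ok (2 * 11) EX RL ⟨3 :: [4, 3, 4, 5], [], 5, false⟩) (lall (memL L) [4, 3, 4, 5]) = true := by decide +kernel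

theorem rot3_18 : T.rot 3 [4, 5, 3, 4] (sel (ones 26163) ip3 18) = true := by decide +kernel

theorem rot3_18r : band (Rule.ok (2 * 11) EX RL ⟨3 :: [4, 5, 3, 4], [4, 6], 5, false⟩) (lall (memL L) [4, 5, 3, 4]) = true := by decide +kernel

theorem rot3_19 : T.rot 3 [2, 1, 8, 4] (sel (ones 26163) ip3 19) = true := by decide +kernel

theorem rot3_19r : band (Rule.ok (2 * 11) EX RL ⟨3 :: [2, 1, 8, 4], [6], 27, true⟩) (lall (memL L) [2, 1, 8, 4]) = true := by decide +kernel

theorem rot3_20 : T.rot 3 [4, 8, 1, 2] (sel (ones 26163) ip3 20) = true := by decide +kernel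

theorem rot3_20r : band (Rule.ok (2 * 11) EX RL ⟨3 :: [4, 8, 1, 2], [6, 4], 27, false⟩) (lall (memL L) [4, 8, 1, 2]) = true := by decide +kernel

theorem rot3_21 : T.rot 3 [2, 9, 4, 6, 2, 9] (sel (ones 26163) ip3 21) = true := by decide +kernel

theorem rot3_21r : band (Rule.ok (2 * 11) EX RL ⟨3 :: [2, 9, 4, 6, 2, 9], [16, 2, 4], 31, true⟩) (lall (memL L) [2, 9, 4, 6, 2, 9]) = true := by decide +kernel

theorem rot3_22 : T.rot 3 [9, 2, 6, 4, 9, 2] (sel (ones 26163) ip3 22) = true := by decide +kernel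

theorem rot3_22r : band (Rule.ok (2 * 11) EX RL ⟨3 :: [9, 2, 6, 4, 9, 2], [16, 2], 31, false⟩) (lall (memL L) [9, 2, 6, 4, 9, 2]) = true := by decide +kernel

theorem cov3 : T.cover 3 [(sel (ones 26163) ip3 1), (sel (ones 26163) ip3 2), (sel (ones 26163) ip3 3), (sel (ones 26163) ip3 4), (sel (ones 26163) ip3 5), (sel (ones 26163) ip3 6), (sel (ones 26163) ip3 7), (sel (ones 26163) ip3 8), (sel (ones 26163) ip3 9), (sel (ones 26163) ip3 10), (sel (ones 26163) ip3 11), (sel (ones 26163) ip3 12), (sel (ones 26163) ip3 13), (sel (ones 26163) ip3 14), (sel (ones 26163) ip3 15), (sel (ones 26163) ip3 16), (sel (ones 26163) ip3 17), (sel (ones 26163) ip3 18), (sel (ones 26163) ip3 19), (sel (ones 26163) ip3 20), (sel (ones 26163) ip3 21), (sel (ones 26163) ip3 22), 1] = true := by decide +kernel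

theorem tl3 : T.treeLt 15 3 = true := by decide +kernel

theorem rot4_1 : T.rot 4 [4] (sel (ones 26163) ip4 1) = true := by decide +kernel

theorem rot4_1r : band (Rule.ok (2 * 11) EX RL ⟨4 :: [4], [], 39, false⟩) (lall (memL L) [4]) = true := by decide +kernel

theorem rot4_2 : T.rot 4 [5, 4, 5] (sel (ones 26163) ip4 2) = true := by decide +kernel

theorem rot4_2r : band (Rule.ok (2 * 11) EX RL ⟨4 :: [5, 4, 5], [], 9, false⟩) (lall (memL L) [5, 4, 5]) = true := by decide +kernel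

theorem rot4_3 : T.rot 4 [6, 8, 6] (sel (ones 26163) ip4 3) = true := by decide +kernel

theorem rot4_3r : band (Rule.ok (2 * 11) EX RL ⟨4 :: [6, 8, 6], [10], 16, false⟩) (lall (memL L) [6, 8, 6]) = true := by decide +kernel

theorem rot4_4 : T.rot 4 [7, 4, 7] (sel (ones 26163) ip4 4) = true := by decide +kernel

theorem rot4_4r : band (Rule.ok (2 * 11) EX RL ⟨4 :: [7, 4, 7], [], 20, true⟩) (lall (memL L) [7, 4, 7]) = true := by decide +kernel

theorem rot4_5 : T.rot 4 [13, 3, 12] (sel (ones 26163) ip4 5) = true := by decide +kernel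

theorem rot4_5r : band (Rule.ok (2 * 11) EX RL ⟨4 :: [13, 3, 12], [], 24, true⟩) (lall (memL L) [13, 3, 12]) = true := by decide +kernel

theorem rot4_6 : T.rot 4 [12, 2, 13] (sel (ones 26163) ip4 6) = true := by decide +kernel

theorem rot4_6r : band (Rule.ok (2 * 11) EX RL ⟨4 :: [12, 2, 13], [22], 25, false⟩) (lall (memL L) [12, 2, 13]) = true := by decide +kernel

theorem rot4_7 : T.rot 4 [1, 4, 1, 5] (sel (ones 26163) ip4 7) = true := by decide +kernel

theorem rot4_7r : band (Rule.ok (2 * 11) EX RL ⟨4 :: [1, 4, 1, 5], [8], 2, true⟩) (lall (memL L) [1, 4, 1, 5]) = true := by decide +kernel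

theorem rot4_8 : T.rot 4 [1, 5, 4, 1] (sel (ones 26163) ip4 8) = true := by decide +kernel

theorem rot4_8r : band (Rule.ok (2 * 11) EX RL ⟨4 :: [1, 5, 4, 1], [0, 6], 2, true⟩) (lall (memL L) [1, 5, 4, 1]) = true := by decide +kernel

theorem rot4_9 : T.rot 4 [1, 4, 5, 1] (sel (ones 26163) ip4 9) = true := by decide +kernel

theorem rot4_9r : band (Rule.ok (2 * 11) EX RL ⟨4 :: [1, 4, 5, 1], [0], 2, false⟩) (lall (memL L) [1, 4, 5, 1]) = true := by decide +kernel

theorem rot4_10 : T.rot 4 [5, 1, 4, 1] (sel (ones 26163) ip4 10) = true := by decide +kernel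

theorem rot4_10r : band (Rule.ok (2 * 11) EX RL ⟨4 :: [5, 1, 4, 1], [8, 6], 2, false⟩) (lall (memL L) [5, 1, 4, 1]) = true := by decide +kernel

theorem rot4_11 : T.rot 4 [2, 4, 2, 5] (sel (ones 26163) ip4 11) = true := by decide +kernel

theorem rot4_11r : band (Rule.ok (2 * 11) EX RL ⟨4 :: [2, 4, 2, 5], [8], 4, true⟩) (lall (memL L) [2, 4, 2, 5]) = true := by decide +kernel

theorem rot4_12 : T.rot 4 [2, 5, 4, 2] (sel (ones 26163) ip4 12) = true := by decide +kernel

theorem rot4_12r : band (Rule.ok (2 * 11) EX RL ⟨4 :: [2, 5, 4, 2], [2, 6], 4, true⟩) (lall (memL L) [2, 5, 4, 2]) = true := by decide +kernel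

theorem rot4_13 : T.rot 4 [2, 4, 5, 2] (sel (ones 26163) ip4 13) = true := by decide +kernel

theorem rot4_13r : band (Rule.ok (2 * 11) EX RL ⟨4 :: [2, 4, 5, 2], [2], 4, false⟩) (lall (memL L) [2, 4, 5, 2]) = true := by decide +kernel

theorem rot4_14 : T.rot 4 [5, 2, 4, 2] (sel (ones 26163) ip4 14) = true := by decide +kernel

theorem rot4_14r : band (Rule.ok (2 * 11) EX RL ⟨4 :: [5, 2, 4, 2], [8, 6], 4, false⟩) (lall (memL L) [5, 2, 4, 2]) = true := by decide +kernel

theorem rot4_15 : T.rot 4 [3, 4, 3, 5] (sel (ones 26163) ip4 15) = true := by decide +kernel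

theorem rot4_15r : band (Rule.ok (2 * 11) EX RL ⟨4 :: [3, 4, 3, 5], [8], 5, true⟩) (lall (memL L) [3, 4, 3, 5]) = true := by decide +kernel

theorem rot4_16 : T.rot 4 [3, 5, 4, 3] (sel (ones 26163) ip4 16) = true := by decide +kernel

theorem rot4_16r : band (Rule.ok (2 * 11) EX RL ⟨4 :: [3, 5, 4, 3], [4, 6], 5, true⟩) (lall (memL L) [3, 5, 4, 3]) = true := by decide +kernel

theorem rot4_17 : T.rot 4 [3, 4, 5, 3] (sel (ones 26163) ip4 17) = true := by decide +kernel

theorem rot4_17r : band (Rule.ok (2 * 11) EX RL ⟨4 :: [3, 4, 5, 3], [4], 5, false⟩) (lall (memL L) [3, 4, 5, 3]) = true := by decide +kernel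

theorem rot4_18 : T.rot 4 [5, 3, 4, 3] (sel (ones 26163) ip4 18) = true := by decide +kernel

theorem rot4_18r : band (Rule.ok (2 * 11) EX RL ⟨4 :: [5, 3, 4, 3], [8, 6], 5, false⟩) (lall (memL L) [5, 3, 4, 3]) = true := by decide +kernel

theorem rot4_19 : T.rot 4 [3, 2, 1, 8] (sel (ones 26163) ip4 19) = true := by decide +kernel

theorem rot4_19r : band (Rule.ok (2 * 11) EX RL ⟨4 :: [3, 2, 1, 8], [], 27, true⟩) (lall (memL L) [3, 2, 1, 8]) = true := by decide +kernel

theorem rot4_20 : T.rot 4 [8, 1, 2, 3] (sel (ones 26163) ip4 20) = true := by decide +kernel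

theorem rot4_20r : band (Rule.ok (2 * 11) EX RL ⟨4 :: [8, 1, 2, 3], [6], 27, false⟩) (lall (memL L) [8, 1, 2, 3]) = true := by decide +kernel

theorem rot4_21 : T.rot 4 [6, 2, 9, 3, 2, 9] (sel (ones 26163) ip4 21) = true := by decide +kernel

theorem rot4_21r : band (Rule.ok (2 * 11) EX RL ⟨4 :: [6, 2, 9, 3, 2, 9], [], 31, true⟩) (lall (memL L) [6, 2, 9, 3, 2, 9]) = true := by decide +kernel

theorem rot4_22 : T.rot 4 [9, 2, 3, 9, 2, 6] (sel (ones 26163) ip4 22) = true := by decide +kernel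

theorem rot4_22r : band (Rule.ok (2 * 11) EX RL ⟨4 :: [9, 2, 3, 9, 2, 6], [6], 31, false⟩) (lall (memL L) [9, 2, 3, 9, 2, 6]) = true := by decide +kernel

theorem cov4 : T.cover 4 [(sel (ones 26163) ip4 1), (sel (ones 26163) ip4 2), (sel (ones 26163) ip4 3), (sel (ones 26163) ip4 4), (sel (ones 26163) ip4 5), (sel (ones 26163) ip4 6), (sel (ones 26163) ip4 7), (sel (ones 26163) ip4 8), (sel (ones 26163) ip4 9), (sel (ones 26163) ip4 10), (sel (ones 26163) ip4 11), (sel (ones 26163) ip4 12), (sel (ones 26163) ip4 13), (sel (ones 26163) ip4 14), (sel (ones 26163) ip4 15), (sel (ones 26163) ip4 16), (sel (ones 26163) ip4 17), (sel (ones 26163) ip4 18), (sel (ones 26163) ip4 19), (sel (ones 26163) ip4 20), (sel (ones 26163) ip4 21), (sel (ones 26163) ip4 22), 1] = true := by decide +kernel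

theorem tl4 : T.treeLt 15 4 = true := by decide +kernel

theorem rot5_1 : T.rot 5 [5] (sel (ones 26163) ip5 1) = true := by decide +kernel

theorem rot5_1r : band (Rule.ok (2 * 11) EX RL ⟨5 :: [5], [], 39, false⟩) (lall (memL L) [5]) = true := by decide +kernel

theorem rot5_2 : T.rot 5 [1, 5, 1] (sel (ones 26163) ip5 2) = true := by decide +kernel

theorem rot5_2r : band (Rule.ok (2 * 11) EX RL ⟨5 :: [1, 5, 1], [], 6, true⟩) (lall (memL L) [1, 5, 1]) = true := by decide +kernel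

theorem rot5_3 : T.rot 5 [2, 5, 2] (sel (ones 26163) ip5 3) = true := by decide +kernel

theorem rot5_3r : band (Rule.ok (2 * 11) EX RL ⟨5 :: [2, 5, 2], [], 7, true⟩) (lall (memL L) [2, 5, 2]) = true := by decide +kernel

theorem rot5_4 : T.rot 5 [3, 5, 3] (sel (ones 26163) ip5 4) = true := by decide +kernel

theorem rot5_4r : band (Rule.ok (2 * 11) EX RL ⟨5 :: [3, 5, 3], [], 8, true⟩) (lall (memL L) [3, 5, 3]) = true := by decide +kernel

theorem rot5_5 : T.rot 5 [4, 5, 4] (sel (ones 26163) ip5 5) = true := by decide +kernel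

theorem rot5_5r : band (Rule.ok (2 * 11) EX RL ⟨5 :: [4, 5, 4], [], 9, true⟩) (lall (memL L) [4, 5, 4]) = true := by decide +kernel

theorem rot5_6 : T.rot 5 [6, 5, 6] (sel (ones 26163) ip5 6) = true := by decide +kernel

theorem rot5_6r : band (Rule.ok (2 * 11) EX RL ⟨5 :: [6, 5, 6], [], 17, true⟩) (lall (memL L) [6, 5, 6]) = true := by decide +kernel

theorem rot5_7 : T.rot 5 [7, 5, 7] (sel (ones 26163) ip5 7) = true := by decide +kernel

theorem rot5_7r : band (Rule.ok (2 * 11) EX RL ⟨5 :: [7, 5, 7], [], 21, true⟩) (lall (memL L) [7, 5, 7]) = true := by decide +kernel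

theorem rot5_8 : T.rot 5 [13, 5, 12] (sel (ones 26163) ip5 8) = true := by decide +kernel

theorem rot5_8r : band (Rule.ok (2 * 11) EX RL ⟨5 :: [13, 5, 12], [], 26, true⟩) (lall (memL L) [13, 5, 12]) = true := by decide +kernel

theorem rot5_9 : T.rot 5 [12, 5, 13] (sel (ones 26163) ip5 9) = true := by decide +kernel

theorem rot5_9r : band (Rule.ok (2 * 11) EX RL ⟨5 :: [12, 5, 13], [22], 26, false⟩) (lall (memL L) [12, 5, 13]) = true := by decide +kernel

theorem rot5_10 : T.rot 5 [9, 1, 9] (sel (ones 26163) ip5 10) = true := by decide +kernel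

theorem rot5_10r : band (Rule.ok (2 * 11) EX RL ⟨5 :: [9, 1, 9], [16], 28, false⟩) (lall (memL L) [9, 1, 9]) = true := by decide +kernel

theorem rot5_11 : T.rot 5 [10, 6, 10] (sel (ones 26163) ip5 11) = true := by decide +kernel

theorem rot5_11r : band (Rule.ok (2 * 11) EX RL ⟨5 :: [10, 6, 10], [18], 32, false⟩) (lall (memL L) [10, 6, 10]) = true := by decide +kernel

theorem rot5_12 : T.rot 5 [2, 1, 2, 1] (sel (ones 26163) ip5 12) = true := by decide +kernel

theorem rot5_12r : band (Rule.ok (2 * 11) EX RL ⟨5 :: [2, 1, 2, 1], [], 0, true⟩) (lall (memL L) [2, 1, 2, 1]) = true := by decide +kernel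

theorem rot5_13 : T.rot 5 [1, 2, 1, 2] (sel (ones 26163) ip5 13) = true := by decide +kernel

theorem rot5_13r : band (Rule.ok (2 * 11) EX RL ⟨5 :: [1, 2, 1, 2], [8], 0, false⟩) (lall (memL L) [1, 2, 1, 2]) = true := by decide +kernel

theorem rot5_14 : T.rot 5 [3, 1, 3, 1] (sel (ones 26163) ip5 14) = true := by decide +kernel

theorem rot5_14r : band (Rule.ok (2 * 11) EX RL ⟨5 :: [3, 1, 3, 1], [], 1, true⟩) (lall (memL L) [3, 1, 3, 1]) = true := by decide +kernel

theorem rot5_15 : T.rot 5 [1, 3, 1, 3] (sel (ones 26163) ip5 15) = true := by decide +kernel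

theorem rot5_15r : band (Rule.ok (2 * 11) EX RL ⟨5 :: [1, 3, 1, 3], [8], 1, false⟩) (lall (memL L) [1, 3, 1, 3]) = true := by decide +kernel

theorem rot5_16 : T.rot 5 [4, 1, 4, 1] (sel (ones 26163) ip5 16) = true := by decide +kernel

theorem rot5_16r : band (Rule.ok (2 * 11) EX RL ⟨5 :: [4, 1, 4, 1], [], 2, true⟩) (lall (memL L) [4, 1, 4, 1]) = true := by decide +kernel

theorem rot5_17 : T.rot 5 [1, 4, 1, 4] (sel (ones 26163) ip5 17) = true := by decide +kernel

theorem rot5_17r : band (Rule.ok (2 * 11) EX RL ⟨5 :: [1, 4, 1, 4], [8], 2, false⟩) (lall (memL L) [1, 4, 1, 4]) = true := by decide +kernel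

theorem rot5_18 : T.rot 5 [3, 2, 3, 2] (sel (ones 26163) ip5 18) = true := by decide +kernel

theorem rot5_18r : band (Rule.ok (2 * 11) EX RL ⟨5 :: [3, 2, 3, 2], [], 3, true⟩) (lall (memL L) [3, 2, 3, 2]) = true := by decide +kernel

theorem rot5_19 : T.rot 5 [2, 3, 2, 3] (sel (ones 26163) ip5 19) = true := by decide +kernel

theorem rot5_19r : band (Rule.ok (2 * 11) EX RL ⟨5 :: [2, 3, 2, 3], [8], 3, false⟩) (lall (memL L) [2, 3, 2, 3]) = true := by decide +kernel

theorem rot5_20 : T.rot 5 [4, 2, 4, 2] (sel (ones 26163) ip5 20) = true := by decide +kernel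

theorem rot5_20r : band (Rule.ok (2 * 11) EX RL ⟨5 :: [4, 2, 4, 2], [], 4, true⟩) (lall (memL L) [4, 2, 4, 2]) = true := by decide +kernel

theorem rot5_21 : T.rot 5 [2, 4, 2, 4] (sel (ones 26163) ip5 21) = true := by decide +kernel

theorem rot5_21r : band (Rule.ok (2 * 11) EX RL ⟨5 :: [2, 4, 2, 4], [8], 4, false⟩) (lall (memL L) [2, 4, 2, 4]) = true := by decide +kernel

theorem rot5_22 : T.rot 5 [4, 3, 4, 3] (sel (ones 26163) ip5 22) = true := by decide +kernel

theorem rot5_22r : band (Rule.ok (2 * 11) EX RL ⟨5 :: [4, 3, 4, 3], [], 5, true⟩) (lall (memL L) [4, 3, 4, 3]) = true := by decide +kernel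

theorem rot5_23 : T.rot 5 [3, 4, 3, 4] (sel (ones 26163) ip5 23) = true := by decide +kernel

theorem rot5_23r : band (Rule.ok (2 * 11) EX RL ⟨5 :: [3, 4, 3, 4], [8], 5, false⟩) (lall (memL L) [3, 4, 3, 4]) = true := by decide +kernel

theorem rot5_24 : T.rot 5 [11, 7, 9, 7, 11, 8] (sel (ones 26163) ip5 24) = true := by decide +kernel

theorem rot5_24r : band (Rule.ok (2 * 11) EX RL ⟨5 :: [11, 7, 9, 7, 11, 8], [20, 14], 38, true⟩) (lall (memL L) [11, 7, 9, 7, 11, 8]) = true := by decide +kernel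

theorem rot5_25 : T.rot 5 [8, 11, 7, 9, 7, 11] (sel (ones 26163) ip5 25) = true := by decide +kernel

theorem rot5_25r : band (Rule.ok (2 * 11) EX RL ⟨5 :: [8, 11, 7, 9, 7, 11], [20, 14, 8], 38, false⟩) (lall (memL L) [8, 11, 7, 9, 7, 11]) = true := by decide +kernel

theorem cov5 : T.cover 5 [(sel (ones 26163) ip5 1), (sel (ones 26163) ip5 2), (sel (ones 26163) ip5 3), (sel (ones 26163) ip5 4), (sel (ones 26163) ip5 5), (sel (ones 26163) ip5 6), (sel (ones 26163) ip5 7), (sel (ones 26163) ip5 8), (sel (ones 26163) ip5 9), (sel (ones 26163) ip5 10), (sel (ones 26163) ip5 11), (sel (ones 26163) ip5 12), (sel (ones 26163) ip5 13), (sel (ones 26163) ip5 14), (sel (ones 26163) ip5 15), (sel (ones 26163) ip5 16), (sel (ones 26163) ip5 17), (sel (ones 26163) ip5 18), (sel (ones 26163) ip5 19), (sel (ones 26163) ip5 20), (sel (ones 26163) ip5 21), (sel (ones 26163) ip5 22), (sel (ones 26163) ip5 23), (sel (ones 26163) ip5 24), (sel (ones 26163) ip5 25), 1] = true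 := by decide +kernel

theorem tl5 : T.treeLt 15 5 = true := by decide +kernel

theorem rot6_1 : T.rot 6 [6] (sel (ones 26163) ip6 1) = true := by decide +kernel

theorem rot6_1r : band (Rule.ok (2 * 11) EX RL ⟨6 :: [6], [], 39, false⟩) (lall (memL L) [6]) = true := by decide +kernel

theorem rot6_2 : T.rot 6 [1, 6, 1] (sel (ones 26163) ip6 2) = true := by decide +kernel

theorem rot6_2r : band (Rule.ok (2 * 11) EX RL ⟨6 :: [1, 6, 1], [], 14, false⟩) (lall (memL L) [1, 6, 1]) = true := by decide +kernel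

theorem rot6_3 : T.rot 6 [2, 6, 3] (sel (ones 26163) ip6 3) = true := by decide +kernel

theorem rot6_3r : band (Rule.ok (2 * 11) EX RL ⟨6 :: [2, 6, 3], [], 15, false⟩) (lall (memL L) [2, 6, 3]) = true := by decide +kernel

theorem rot6_4 : T.rot 6 [3, 6, 2] (sel (ones 26163) ip6 4) = true := by decide +kernel

theorem rot6_4r : band (Rule.ok (2 * 11) EX RL ⟨6 :: [3, 6, 2], [10], 15, true⟩) (lall (memL L) [3, 6, 2]) = true := by decide +kernel

theorem rot6_5 : T.rot 6 [4, 6, 8] (sel (ones 26163) ip6 5) = true := by decide +kernel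

theorem rot6_5r : band (Rule.ok (2 * 11) EX RL ⟨6 :: [4, 6, 8], [], 16, false⟩) (lall (memL L) [4, 6, 8]) = true := by decide +kernel

theorem rot6_6 : T.rot 6 [8, 6, 4] (sel (ones 26163) ip6 6) = true := by decide +kernel

theorem rot6_6r : band (Rule.ok (2 * 11) EX RL ⟨6 :: [8, 6, 4], [10], 16, true⟩) (lall (memL L) [8, 6, 4]) = true := by decide +kernel

theorem rot6_7 : T.rot 6 [5, 6, 5] (sel (ones 26163) ip6 7) = true := by decide +kernel

theorem rot6_7r : band (Rule.ok (2 * 11) EX RL ⟨6 :: [5, 6, 5], [], 17, false⟩) (lall (memL L) [5, 6, 5]) = true := by decide +kernel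

theorem rot6_8 : T.rot 6 [10, 5, 10] (sel (ones 26163) ip6 8) = true := by decide +kernel

theorem rot6_8r : band (Rule.ok (2 * 11) EX RL ⟨6 :: [10, 5, 10], [], 32, true⟩) (lall (memL L) [10, 5, 10]) = true := by decide +kernel

theorem rot6_9 : T.rot 6 [12, 6, 12, 6, 12] (sel (ones 26163) ip6 9) = true := by decide +kernel

theorem rot6_9r : band (Rule.ok (2 * 11) EX RL ⟨6 :: [12, 6, 12, 6, 12], [], 11, true⟩) (lall (memL L) [12, 6, 12, 6, 12]) = true := by decide +kernel

theorem rot6_10 : T.rot 6 [13, 6, 13, 6, 13] (sel (ones 26163) ip6 10) = true := by decide +kernel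

theorem rot6_10r : band (Rule.ok (2 * 11) EX RL ⟨6 :: [13, 6, 13, 6, 13], [10], 11, false⟩) (lall (memL L) [13, 6, 13, 6, 13]) = true := by decide +kernel

theorem rot6_11 : T.rot 6 [7, 6, 7, 6, 7] (sel (ones 26163) ip6 11) = true := by decide +kernel

theorem rot6_11r : band (Rule.ok (2 * 11) EX RL ⟨6 :: [7, 6, 7, 6, 7], [], 12, false⟩) (lall (memL L) [7, 6, 7, 6, 7]) = true := by decide +kernel

theorem rot6_12 : T.rot 6 [12, 10, 1, 10, 13] (sel (ones 26163) ip6 12) = true := by decide +kernel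

theorem rot6_12r : band (Rule.ok (2 * 11) EX RL ⟨6 :: [12, 10, 1, 10, 13], [22], 33, true⟩) (lall (memL L) [12, 10, 1, 10, 13]) = true := by decide +kernel

theorem rot6_13 : T.rot 6 [2, 9, 3, 2, 9, 4] (sel (ones 26163) ip6 13) = true := by decide +kernel

theorem rot6_13r : band (Rule.ok (2 * 11) EX RL ⟨6 :: [2, 9, 3, 2, 9, 4], [6], 31, true⟩) (lall (memL L) [2, 9, 3, 2, 9, 4]) = true := by decide +kernel

theorem rot6_14 : T.rot 6 [4, 9, 2, 3, 9, 2] (sel (ones 26163) ip6 14) = true := by decide +kernel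

theorem rot6_14r : band (Rule.ok (2 * 11) EX RL ⟨6 :: [4, 9, 2, 3, 9, 2], [6, 10], 31, false⟩) (lall (memL L) [4, 9, 2, 3, 9, 2]) = true := by decide +kernel

theorem rot6_15 : T.rot 6 [8, 10, 8, 6, 8, 10, 8, 6, 8, 10, 8] (sel (ones 26163) ip6 15) = true := by decide +kernel

theorem rot6_15r : band (Rule.ok (2 * 11) EX RL ⟨6 :: [8, 10, 8, 6, 8, 10, 8, 6, 8, 10, 8], [14], 35, true⟩) (lall (memL L) [8, 10, 8, 6, 8, 10, 8, 6, 8, 10, 8]) = true := by decide +kernel

theorem cov6 : T.cover 6 [(sel (ones 26163) ip6 1), (sel (ones 26163) ip6 2), (sel (ones 26163) ip6 3), (sel (ones 26163) ip6 4), (sel (ones 26163) ip6 5), (sel (ones 26163) ip6 6), (sel (ones 26163) ip6 7), (sel (ones 26163) ip6 8), (sel (ones 26163) ip6 9), (sel (ones 26163) ip6 10), (sel (ones 26163) ip6 11), (sel (ones 26163) ip6 12), (sel (ones 26163) ip6 13), (sel (ones 26163) ip6 14), (sel (ones 26163) ip6 15), 1] = true := by decide +kernel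

theorem tl6 : T.treeLt 15 6 = true := by decide +kernel

theorem rot7_1 : T.rot 7 [7] (sel (ones 26163) ip7 1) = true := by decide +kernel

theorem rot7_1r : band (Rule.ok (2 * 11) EX RL ⟨7 :: [7], [], 39, false⟩) (lall (memL L) [7]) = true := by decide +kernel

theorem rot7_2 : T.rot 7 [12, 7, 12] (sel (ones 26163) ip7 2) = true := by decide +kernel

theorem rot7_2r : band (Rule.ok (2 * 11) EX RL ⟨7 :: [12, 7, 12], [], 13, true⟩) (lall (memL L) [12, 7, 12]) = true := by decide +kernel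

theorem rot7_3 : T.rot 7 [13, 7, 13] (sel (ones 26163) ip7 3) = true := by decide +kernel

theorem rot7_3r : band (Rule.ok (2 * 11) EX RL ⟨7 :: [13, 7, 13], [12], 13, false⟩) (lall (memL L) [13, 7, 13]) = true := by decide +kernel

theorem rot7_4 : T.rot 7 [1, 7, 8] (sel (ones 26163) ip7 4) = true := by decide +kernel

theorem rot7_4r : band (Rule.ok (2 * 11) EX RL ⟨7 :: [1, 7, 8], [], 18, false⟩) (lall (memL L) [1, 7, 8]) = true := by decide +kernel

theorem rot7_5 : T.rot 7 [8, 7, 1] (sel (ones 26163) ip7 5) = true := by decide +kernel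

theorem rot7_5r : band (Rule.ok (2 * 11) EX RL ⟨7 :: [8, 7, 1], [12], 18, true⟩) (lall (memL L) [8, 7, 1]) = true := by decide +kernel

theorem rot7_6 : T.rot 7 [2, 7, 3] (sel (ones 26163) ip7 6) = true := by decide +kernel

theorem rot7_6r : band (Rule.ok (2 * 11) EX RL ⟨7 :: [2, 7, 3], [], 19, false⟩) (lall (memL L) [2, 7, 3]) = true := by decide +kernel

theorem rot7_7 : T.rot 7 [3, 7, 2] (sel (ones 26163) ip7 7) = true := by decide +kernel

theorem rot7_7r : band (Rule.ok (2 * 11) EX RL ⟨7 :: [3, 7, 2], [12], 19, true⟩) (lall (memL L) [3, 7, 2]) = true := by decide +kernel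

theorem rot7_8 : T.rot 7 [4, 7, 4] (sel (ones 26163) ip7 8) = true := by decide +kernel

theorem rot7_8r : band (Rule.ok (2 * 11) EX RL ⟨7 :: [4, 7, 4], [], 20, false⟩) (lall (memL L) [4, 7, 4]) = true := by decide +kernel

theorem rot7_9 : T.rot 7 [5, 7, 5] (sel (ones 26163) ip7 9) = true := by decide +kernel

theorem rot7_9r : band (Rule.ok (2 * 11) EX RL ⟨7 :: [5, 7, 5], [], 21, false⟩) (lall (memL L) [5, 7, 5]) = true := by decide +kernel

theorem rot7_10 : T.rot 7 [6, 7, 6, 7, 6] (sel (ones 26163) ip7 10) = true := by decide +kernel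

theorem rot7_10r : band (Rule.ok (2 * 11) EX RL ⟨7 :: [6, 7, 6, 7, 6], [], 12, true⟩) (lall (memL L) [6, 7, 6, 7, 6]) = true := by decide +kernel

theorem rot7_11 : T.rot 7 [9, 7, 11, 8, 5, 11] (sel (ones 26163) ip7 11) = true := by decide +kernel

theorem rot7_11r : band (Rule.ok (2 * 11) EX RL ⟨7 :: [9, 7, 11, 8, 5, 11], [12, 16, 12], 38, true⟩) (lall (memL L) [9, 7, 11, 8, 5, 11]) = true := by decide +kernel

theorem rot7_12 : T.rot 7 [11, 8, 5, 11, 7, 9] (sel (ones 26163) ip7 12) = true := by decide +kernel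

theorem rot7_12r : band (Rule.ok (2 * 11) EX RL ⟨7 :: [11, 8, 5, 11, 7, 9], [12], 38, true⟩) (lall (memL L) [11, 8, 5, 11, 7, 9]) = true := by decide +kernel

theorem rot7_13 : T.rot 7 [9, 7, 11, 5, 8, 11] (sel (ones 26163) ip7 13) = true := by decide +kernel

theorem rot7_13r : band (Rule.ok (2 * 11) EX RL ⟨7 :: [9, 7, 11, 5, 8, 11], [], 38, false⟩) (lall (memL L) [9, 7, 11, 5, 8, 11]) = true := by decide +kernel

theorem rot7_14 : T.rot 7 [11, 5, 8, 11, 7, 9] (sel (ones 26163) ip7 14) = true := by decide +kernel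

theorem rot7_14r : band (Rule.ok (2 * 11) EX RL ⟨7 :: [11, 5, 8, 11, 7, 9], [12, 16], 38, false⟩) (lall (memL L) [11, 5, 8, 11, 7, 9]) = true := by decide +kernel

theorem cov7 : T.cover 7 [(sel (ones 26163) ip7 1), (sel (ones 26163) ip7 2), (sel (ones 26163) ip7 3), (sel (ones 26163) ip7 4), (sel (ones 26163) ip7 5), (sel (ones 26163) ip7 6), (sel (ones 26163) ip7 7), (sel (ones 26163) ip7 8), (sel (ones 26163) ip7 9), (sel (ones 26163) ip7 10), (sel (ones 26163) ip7 11), (sel (ones 26163) ip7 12), (sel (ones 26163) ip7 13), (sel (ones 26163) ip7 14), 1] = true := by decide +kernel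

theorem tl7 : T.treeLt 15 7 = true := by decide +kernel

theorem rot8_1 : T.rot 8 [8] (sel (ones 26163) ip8 1) = true := by decide +kernel

theorem rot8_1r : band (Rule.ok (2 * 11) EX RL ⟨8 :: [8], [], 39, false⟩) (lall (memL L) [8]) = true := by decide +kernel

theorem rot8_2 : T.rot 8 [6, 4, 6] (sel (ones 26163) ip8 2) = true := by decide +kernel

theorem rot8_2r : band (Rule.ok (2 * 11) EX RL ⟨8 :: [6, 4, 6], [], 16, true⟩) (lall (memL L) [6, 4, 6]) = true := by decide +kernel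

theorem rot8_3 : T.rot 8 [7, 1, 7] (sel (ones 26163) ip8 3) = true := by decide +kernel

theorem rot8_3r : band (Rule.ok (2 * 11) EX RL ⟨8 :: [7, 1, 7], [], 18, true⟩) (lall (memL L) [7, 1, 7]) = true := by decide +kernel

theorem rot8_4 : T.rot 8 [4, 3, 2, 1] (sel (ones 26163) ip8 4) = true := by decide +kernel

theorem rot8_4r : band (Rule.ok (2 * 11) EX RL ⟨8 :: [4, 3, 2, 1], [14], 27, true⟩) (lall (memL L) [4, 3, 2, 1]) = true := by decide +kernel

theorem rot8_5 : T.rot 8 [1, 2, 3, 4] (sel (ones 26163) ip8 5) = true := by decide +kernel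

theorem rot8_5r : band (Rule.ok (2 * 11) EX RL ⟨8 :: [1, 2, 3, 4], [], 27, false⟩) (lall (memL L) [1, 2, 3, 4]) = true := by decide +kernel

theorem rot8_6 : T.rot 8 [9, 8, 9, 8, 9] (sel (ones 26163) ip8 6) = true := by decide +kernel

theorem rot8_6r : band (Rule.ok (2 * 11) EX RL ⟨8 :: [9, 8, 9, 8, 9], [], 30, true⟩) (lall (memL L) [9, 8, 9, 8, 9]) = true := by decide +kernel

theorem rot8_7 : T.rot 8 [13, 10, 12, 10, 9] (sel (ones 26163) ip8 7) = true := by decide +kernel

theorem rot8_7r : band (Rule.ok (2 * 11) EX RL ⟨8 :: [13, 10, 12, 10, 9], [16], 34, true⟩) (lall (memL L) [13, 10, 12, 10, 9]) = true := by decide +kernel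

theorem rot8_8 : T.rot 8 [9, 10, 13, 10, 12] (sel (ones 26163) ip8 8) = true := by decide +kernel

theorem rot8_8r : band (Rule.ok (2 * 11) EX RL ⟨8 :: [9, 10, 13, 10, 12], [16, 14], 34, false⟩) (lall (memL L) [9, 10, 13, 10, 12]) = true := by decide +kernel

theorem rot8_9 : T.rot 8 [10, 8, 10, 11, 10] (sel (ones 26163) ip8 9) = true := by decide +kernel

theorem rot8_9r : band (Rule.ok (2 * 11) EX RL ⟨8 :: [10, 8, 10, 11, 10], [18], 36, true⟩) (lall (memL L) [10, 8, 10, 11, 10]) = true := by decide +kernel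

theorem rot8_10 : T.rot 8 [10, 11, 10, 8, 10] (sel (ones 26163) ip8 10) = true := by decide +kernel

theorem rot8_10r : band (Rule.ok (2 * 11) EX RL ⟨8 :: [10, 11, 10, 8, 10], [18, 14], 36, false⟩) (lall (memL L) [10, 11, 10, 8, 10]) = true := by decide +kernel

theorem rot8_11 : T.rot 8 [5, 11, 7, 9, 7, 11] (sel (ones 26163) ip8 11) = true := by decide +kernel

theorem rot8_11r : band (Rule.ok (2 * 11) EX RL ⟨8 :: [5, 11, 7, 9, 7, 11], [20], 38, true⟩) (lall (memL L) [5, 11, 7, 9, 7, 11]) = true := by decide +kernel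

theorem rot8_12 : T.rot 8 [11, 7, 9, 7, 11, 5] (sel (ones 26163) ip8 12) = true := by decide +kernel

theorem rot8_12r : band (Rule.ok (2 * 11) EX RL ⟨8 :: [11, 7, 9, 7, 11, 5], [20, 14], 38, false⟩) (lall (memL L) [11, 7, 9, 7, 11, 5]) = true := by decide +kernel

theorem rot8_13 : T.rot 8 [6, 8, 10, 8, 6, 8, 10, 8, 6, 8, 10] (sel (ones 26163) ip8 13) = true := by decide +kernel

theorem rot8_13r : band (Rule.ok (2 * 11) EX RL ⟨8 :: [6, 8, 10, 8, 6, 8, 10, 8, 6, 8, 10], [], 35, true⟩) (lall (memL L) [6, 8, 10, 8, 6, 8, 10, 8, 6, 8, 10]) = true := by decide +kernel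

theorem rot8_14 : T.rot 8 [10, 8, 6, 8, 10, 8, 6, 8, 10, 8, 6] (sel (ones 26163) ip8 14) = true := by decide +kernel

theorem rot8_14r : band (Rule.ok (2 * 11) EX RL ⟨8 :: [10, 8, 6, 8, 10, 8, 6, 8, 10, 8, 6], [14], 35, false⟩) (lall (memL L) [10, 8, 6, 8, 10, 8, 6, 8, 10, 8, 6]) = true := by decide +kernel

theorem cov8 : T.cover 8 [(sel (ones 26163) ip8 1), (sel (ones 26163) ip8 2), (sel (ones 26163) ip8 3), (sel (ones 26163) ip8 4), (sel (ones 26163) ip8 5), (sel (ones 26163) ip8 6), (sel (ones 26163) ip8 7), (sel (ones 26163) ip8 8), (sel (ones 26163) ip8 9), (sel (ones 26163) ip8 10), (sel (ones 26163) ip8 11), (sel (ones 26163) ip8 12), (sel (ones 26163) ip8 13), (sel (ones 26163) ip8 14), 1] = true := by decide +kernel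

theorem tl8 : T.treeLt 15 8 = true := by decide +kernel

theorem rot9_1 : T.rot 9 [9] (sel (ones 26163) ip9 1) = true := by decide +kernel

theorem rot9_1r : band (Rule.ok (2 * 11) EX RL ⟨9 :: [9], [], 39, false⟩) (lall (memL L) [9]) = true := by decide +kernel

theorem rot9_2 : T.rot 9 [5, 9, 1] (sel (ones 26163) ip9 2) = true := by decide +kernel

theorem rot9_2r : band (Rule.ok (2 * 11) EX RL ⟨9 :: [5, 9, 1], [], 28, false⟩) (lall (memL L) [5, 9, 1]) = true := by decide +kernel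

theorem rot9_3 : T.rot 9 [1, 9, 5] (sel (ones 26163) ip9 3) = true := by decide +kernel

theorem rot9_3r : band (Rule.ok (2 * 11) EX RL ⟨9 :: [1, 9, 5], [16], 28, true⟩) (lall (memL L) [1, 9, 5]) = true := by decide +kernel

theorem rot9_4 : T.rot 9 [12, 9, 13] (sel (ones 26163) ip9 4) = true := by decide +kernel

theorem rot9_4r : band (Rule.ok (2 * 11) EX RL ⟨9 :: [12, 9, 13], [22], 29, true⟩) (lall (memL L) [12, 9, 13]) = true := by decide +kernel

theorem rot9_5 : T.rot 9 [13, 9, 12] (sel (ones 26163) ip9 5) = true := by decide +kernel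

theorem rot9_5r : band (Rule.ok (2 * 11) EX RL ⟨9 :: [13, 9, 12], [], 29, false⟩) (lall (memL L) [13, 9, 12]) = true := by decide +kernel

theorem rot9_6 : T.rot 9 [8, 9, 8, 9, 8] (sel (ones 26163) ip9 6) = true := by decide +kernel

theorem rot9_6r : band (Rule.ok (2 * 11) EX RL ⟨9 :: [8, 9, 8, 9, 8], [], 30, false⟩) (lall (memL L) [8, 9, 8, 9, 8]) = true := by decide +kernel

theorem rot9_7 : T.rot 9 [8, 13, 10, 12, 10] (sel (ones 26163) ip9 7) = true := by decide +kernel

theorem rot9_7r : band (Rule.ok (2 * 11) EX RL ⟨9 :: [8, 13, 10, 12, 10], [], 34, true⟩) (lall (memL L) [8, 13, 10, 12, 10]) = true := by decide +kernel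

theorem rot9_8 : T.rot 9 [10, 13, 10, 12, 8] (sel (ones 26163) ip9 8) = true := by decide +kernel

theorem rot9_8r : band (Rule.ok (2 * 11) EX RL ⟨9 :: [10, 13, 10, 12, 8], [16], 34, false⟩) (lall (memL L) [10, 13, 10, 12, 8]) = true := by decide +kernel

theorem rot9_9 : T.rot 9 [11, 9, 11, 9, 11] (sel (ones 26163) ip9 9) = true := by decide +kernel

theorem rot9_9r : band (Rule.ok (2 * 11) EX RL ⟨9 :: [11, 9, 11, 9, 11], [], 37, true⟩) (lall (memL L) [11, 9, 11, 9, 11]) = true := by decide +kernel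

theorem rot9_10 : T.rot 9 [3, 2, 9, 4, 6, 2] (sel (ones 26163) ip9 10) = true := by decide +kernel

theorem rot9_10r : band (Rule.ok (2 * 11) EX RL ⟨9 :: [3, 2, 9, 4, 6, 2], [6, 10, 2], 31, true⟩) (lall (memL L) [3, 2, 9, 4, 6, 2]) = true := by decide +kernel

theorem rot9_11 : T.rot 9 [4, 6, 2, 9, 3, 2] (sel (ones 26163) ip9 11) = true := by decide +kernel

theorem rot9_11r : band (Rule.ok (2 * 11) EX RL ⟨9 :: [4, 6, 2, 9, 3, 2], [16], 31, true⟩) (lall (memL L) [4, 6, 2, 9, 3, 2]) = true := by decide +kernel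

theorem rot9_12 : T.rot 9 [2, 3, 9, 2, 6, 4] (sel (ones 26163) ip9 12) = true := by decide +kernel

theorem rot9_12r : band (Rule.ok (2 * 11) EX RL ⟨9 :: [2, 3, 9, 2, 6, 4], [], 31, false⟩) (lall (memL L) [2, 3, 9, 2, 6, 4]) = true := by decide +kernel

theorem rot9_13 : T.rot 9 [2, 6, 4, 9, 2, 3] (sel (ones 26163) ip9 13) = true := by decide +kernel

theorem rot9_13r : band (Rule.ok (2 * 11) EX RL ⟨9 :: [2, 6, 4, 9, 2, 3], [16, 2, 4], 31, false⟩) (lall (memL L) [2, 6, 4, 9, 2, 3]) = true := by decide +kernel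

theorem rot9_14 : T.rot 9 [7, 11, 8, 5, 11, 7] (sel (ones 26163) ip9 14) = true := by decide +kernel

theorem rot9_14r : band (Rule.ok (2 * 11) EX RL ⟨9 :: [7, 11, 8, 5, 11, 7], [12, 16], 38, true⟩) (lall (memL L) [7, 11, 8, 5, 11, 7]) = true := by decide +kernel

theorem rot9_15 : T.rot 9 [7, 11, 5, 8, 11, 7] (sel (ones 26163) ip9 15) = true := by decide +kernel

theorem rot9_15r : band (Rule.ok (2 * 11) EX RL ⟨9 :: [7, 11, 5, 8, 11, 7], [12], 38, false⟩) (lall (memL L) [7, 11, 5, 8, 11, 7]) = true := by decide +kernel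

theorem cov9 : T.cover 9 [(sel (ones 26163) ip9 1), (sel (ones 26163) ip9 2), (sel (ones 26163) ip9 3), (sel (ones 26163) ip9 4), (sel (ones 26163) ip9 5), (sel (ones 26163) ip9 6), (sel (ones 26163) ip9 7), (sel (ones 26163) ip9 8), (sel (ones 26163) ip9 9), (sel (ones 26163) ip9 10), (sel (ones 26163) ip9 11), (sel (ones 26163) ip9 12), (sel (ones 26163) ip9 13), (sel (ones 26163) ip9 14), (sel (ones 26163) ip9 15)] = true := by decide +kernel

theorem tl9 : T.treeLt 15 9 = true := by decide +kernel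

theorem rot10_1 : T.rot 10 [10] (sel (ones 26163) ip10 1) = true := by decide +kernel

theorem rot10_1r : band (Rule.ok (2 * 11) EX RL ⟨10 :: [10], [], 39, false⟩) (lall (memL L) [10]) = true := by decide +kernel

theorem rot10_2 : T.rot 10 [5, 10, 6] (sel (ones 26163) ip10 2) = true := by decide +kernel

theorem rot10_2r : band (Rule.ok (2 * 11) EX RL ⟨10 :: [5, 10, 6], [], 32, false⟩) (lall (memL L) [5, 10, 6]) = true := by decide +kernel

theorem rot10_3 : T.rot 10 [6, 10, 5] (sel (ones 26163) ip10 3) = true := by decide +kernel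

theorem rot10_3r : band (Rule.ok (2 * 11) EX RL ⟨10 :: [6, 10, 5], [18], 32, true⟩) (lall (memL L) [6, 10, 5]) = true := by decide +kernel

theorem rot10_4 : T.rot 10 [1, 10, 13, 6, 12] (sel (ones 26163) ip10 4) = true := by decide +kernel

theorem rot10_4r : band (Rule.ok (2 * 11) EX RL ⟨10 :: [1, 10, 13, 6, 12], [], 33, false⟩) (lall (memL L) [1, 10, 13, 6, 12]) = true := by decide +kernel

theorem rot10_5 : T.rot 10 [13, 6, 12, 10, 1] (sel (ones 26163) ip10 5) = true := by decide +kernel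

theorem rot10_5r : band (Rule.ok (2 * 11) EX RL ⟨10 :: [13, 6, 12, 10, 1], [18], 33, true⟩) (lall (memL L) [13, 6, 12, 10, 1]) = true := by decide +kernel

theorem rot10_6 : T.rot 10 [12, 10, 9, 8, 13] (sel (ones 26163) ip10 6) = true := by decide +kernel

theorem rot10_6r : band (Rule.ok (2 * 11) EX RL ⟨10 :: [12, 10, 9, 8, 13], [18, 22, 18], 34, true⟩) (lall (memL L) [12, 10, 9, 8, 13]) = true := by decide +kernel

theorem rot10_7 : T.rot 10 [9, 8, 13, 10, 12] (sel (ones 26163) ip10 7) = true := by decide +kernel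

theorem rot10_7r : band (Rule.ok (2 * 11) EX RL ⟨10 :: [9, 8, 13, 10, 12], [18], 34, true⟩) (lall (memL L) [9, 8, 13, 10, 12]) = true := by decide +kernel

theorem rot10_8 : T.rot 10 [13, 10, 12, 8, 9] (sel (ones 26163) ip10 8) = true := by decide +kernel

theorem rot10_8r : band (Rule.ok (2 * 11) EX RL ⟨10 :: [13, 10, 12, 8, 9], [], 34, false⟩) (lall (memL L) [13, 10, 12, 8, 9]) = true := by decide +kernel

theorem rot10_9 : T.rot 10 [12, 8, 9, 10, 13] (sel (ones 26163) ip10 9) = true := by decide +kernel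

theorem rot10_9r : band (Rule.ok (2 * 11) EX RL ⟨10 :: [12, 8, 9, 10, 13], [18, 22], 34, false⟩) (lall (memL L) [12, 8, 9, 10, 13]) = true := by decide +kernel

theorem rot10_10 : T.rot 10 [8, 10, 8, 10, 11] (sel (ones 26163) ip10 10) = true := by decide +kernel

theorem rot10_10r : band (Rule.ok (2 * 11) EX RL ⟨10 :: [8, 10, 8, 10, 11], [], 36, true⟩) (lall (memL L) [8, 10, 8, 10, 11]) = true := by decide +kernel

theorem rot10_11 : T.rot 10 [8, 10, 11, 10, 8] (sel (ones 26163) ip10 11) = true := by decide +kernel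

theorem rot10_11r : band (Rule.ok (2 * 11) EX RL ⟨10 :: [8, 10, 11, 10, 8], [18, 14], 36, true⟩) (lall (memL L) [8, 10, 11, 10, 8]) = true := by decide +kernel

theorem rot10_12 : T.rot 10 [11, 10, 8, 10, 8] (sel (ones 26163) ip10 12) = true := by decide +kernel

theorem rot10_12r : band (Rule.ok (2 * 11) EX RL ⟨10 :: [11, 10, 8, 10, 8], [18], 36, false⟩) (lall (memL L) [11, 10, 8, 10, 8]) = true := by decide +kernel

theorem rot10_13 : T.rot 10 [8, 6, 8, 10, 8, 6, 8, 10, 8, 6, 8] (sel (ones 26163) ip10 13) = true := by decide +kernel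

theorem rot10_13r : band (Rule.ok (2 * 11) EX RL ⟨10 :: [8, 6, 8, 10, 8, 6, 8, 10, 8, 6, 8], [], 35, false⟩) (lall (memL L) [8, 6, 8, 10, 8, 6, 8, 10, 8, 6, 8]) = true := by decide +kernel

theorem cov10 : T.cover 10 [(sel (ones 26163) ip10 1), (sel (ones 26163) ip10 2), (sel (ones 26163) ip10 3), (sel (ones 26163) ip10 4), (sel (ones 26163) ip10 5), (sel (ones 26163) ip10 6), (sel (ones 26163) ip10 7), (sel (ones 26163) ip10 8), (sel (ones 26163) ip10 9), (sel (ones 26163) ip10 10), (sel (ones 26163) ip10 11), (sel (ones 26163) ip10 12), (sel (ones 26163) ip10 13)] = true := by decide +kernel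

theorem tl10 : T.treeLt 15 10 = true := by decide +kernel

theorem rot11_1 : T.rot 11 [11] (sel (ones 26163) ip11 1) = true := by decide +kernel

theorem rot11_1r : band (Rule.ok (2 * 11) EX RL ⟨11 :: [11], [], 39, false⟩) (lall (memL L) [11]) = true := by decide +kernel

theorem rot11_2 : T.rot 11 [10, 8, 10, 8, 10] (sel (ones 26163) ip11 2) = true := by decide +kernel

theorem rot11_2r : band (Rule.ok (2 * 11) EX RL ⟨11 :: [10, 8, 10, 8, 10], [], 36, false⟩) (lall (memL L) [10, 8, 10, 8, 10]) = true := by decide +kernel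

theorem rot11_3 : T.rot 11 [9, 11, 9, 11, 9] (sel (ones 26163) ip11 3) = true := by decide +kernel

theorem rot11_3r : band (Rule.ok (2 * 11) EX RL ⟨11 :: [9, 11, 9, 11, 9], [], 37, false⟩) (lall (memL L) [9, 11, 9, 11, 9]) = true := by decide +kernel

theorem rot11_4 : T.rot 11 [8, 5, 11, 7, 9, 7] (sel (ones 26163) ip11 4) = true := by decide +kernel

theorem rot11_4r : band (Rule.ok (2 * 11) EX RL ⟨11 :: [8, 5, 11, 7, 9, 7], [], 38, true⟩) (lall (memL L) [8, 5, 11, 7, 9, 7]) = true := by decide +kernel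

theorem rot11_5 : T.rot 11 [7, 9, 7, 11, 8, 5] (sel (ones 26163) ip11 5) = true := by decide +kernel

theorem rot11_5r : band (Rule.ok (2 * 11) EX RL ⟨11 :: [7, 9, 7, 11, 8, 5], [20, 14, 8], 38, true⟩) (lall (memL L) [7, 9, 7, 11, 8, 5]) = true := by decide +kernel

theorem rot11_6 : T.rot 11 [5, 8, 11, 7, 9, 7] (sel (ones 26163) ip11 6) = true := by decide +kernel

theorem rot11_6r : band (Rule.ok (2 * 11) EX RL ⟨11 :: [5, 8, 11, 7, 9, 7], [12, 16, 12], 38, false⟩) (lall (memL L) [5, 8, 11, 7, 9, 7]) = true := by decide +kernel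

theorem rot11_7 : T.rot 11 [7, 9, 7, 11, 5, 8] (sel (ones 26163) ip11 7) = true := by decide +kernel

theorem rot11_7r : band (Rule.ok (2 * 11) EX RL ⟨11 :: [7, 9, 7, 11, 5, 8], [20], 38, false⟩) (lall (memL L) [7, 9, 7, 11, 5, 8]) = true := by decide +kernel

theorem cov11 : T.cover 11 [(sel (ones 26163) ip11 1), (sel (ones 26163) ip11 2), (sel (ones 26163) ip11 3), (sel (ones 26163) ip11 4), (sel (ones 26163) ip11 5), (sel (ones 26163) ip11 6), (sel (ones 26163) ip11 7)] = true := by decide +kernel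

theorem tl11 : T.treeLt 15 11 = true := by decide +kernel

theorem rot12_1 : T.rot 12 [13] (sel (ones 26163) ip12 1) = true := by decide +kernel

theorem rot12_1r : band (Rule.ok (2 * 11) EX RL ⟨12 :: [13], [], 39, false⟩) (lall (memL L) [13]) = true := by decide +kernel

theorem rot12_2 : T.rot 12 [12, 12] (sel (ones 26163) ip12 2) = true := by decide +kernel

theorem rot12_2r : band (Rule.ok (2 * 11) EX RL ⟨12 :: [12, 12], [], 10, true⟩) (lall (memL L) [12, 12]) = true := by decide +kernel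

theorem rot12_3 : T.rot 12 [7, 12, 7] (sel (ones 26163) ip12 3) = true := by decide +kernel

theorem rot12_3r : band (Rule.ok (2 * 11) EX RL ⟨12 :: [7, 12, 7], [22], 13, true⟩) (lall (memL L) [7, 12, 7]) = true := by decide +kernel

theorem rot12_4 : T.rot 12 [1, 13, 1] (sel (ones 26163) ip12 4) = true := by decide +kernel

theorem rot12_4r : band (Rule.ok (2 * 11) EX RL ⟨12 :: [1, 13, 1], [22], 22, true⟩) (lall (memL L) [1, 13, 1]) = true := by decide +kernel

theorem rot12_5 : T.rot 12 [3, 13, 2] (sel (ones 26163) ip12 5) = true := by decide +kernel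

theorem rot12_5r : band (Rule.ok (2 * 11) EX RL ⟨12 :: [3, 13, 2], [22], 23, true⟩) (lall (memL L) [3, 13, 2]) = true := by decide +kernel

theorem rot12_6 : T.rot 12 [4, 13, 3] (sel (ones 26163) ip12 6) = true := by decide +kernel

theorem rot12_6r : band (Rule.ok (2 * 11) EX RL ⟨12 :: [4, 13, 3], [22], 24, true⟩) (lall (memL L) [4, 13, 3]) = true := by decide +kernel

theorem rot12_7 : T.rot 12 [2, 13, 4] (sel (ones 26163) ip12 7) = true := by decide +kernel

theorem rot12_7r : band (Rule.ok (2 * 11) EX RL ⟨12 :: [2, 13, 4], [22], 25, true⟩) (lall (memL L) [2, 13, 4]) = true := by decide +kernel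

theorem rot12_8 : T.rot 12 [5, 13, 5] (sel (ones 26163) ip12 8) = true := by decide +kernel

theorem rot12_8r : band (Rule.ok (2 * 11) EX RL ⟨12 :: [5, 13, 5], [22], 26, true⟩) (lall (memL L) [5, 13, 5]) = true := by decide +kernel

theorem rot12_9 : T.rot 12 [9, 13, 9] (sel (ones 26163) ip12 9) = true := by decide +kernel

theorem rot12_9r : band (Rule.ok (2 * 11) EX RL ⟨12 :: [9, 13, 9], [22], 29, false⟩) (lall (memL L) [9, 13, 9]) = true := by decide +kernel

theorem rot12_10 : T.rot 12 [6, 12, 6, 12, 6] (sel (ones 26163) ip12 10) = true := by decide +kernel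

theorem rot12_10r : band (Rule.ok (2 * 11) EX RL ⟨12 :: [6, 12, 6, 12, 6], [22], 11, true⟩) (lall (memL L) [6, 12, 6, 12, 6]) = true := by decide +kernel

theorem rot12_11 : T.rot 12 [10, 1, 10, 13, 6] (sel (ones 26163) ip12 11) = true := by decide +kernel

theorem rot12_11r : band (Rule.ok (2 * 11) EX RL ⟨12 :: [10, 1, 10, 13, 6], [22], 33, false⟩) (lall (memL L) [10, 1, 10, 13, 6]) = true := by decide +kernel

theorem rot12_12 : T.rot 12 [10, 9, 8, 13, 10] (sel (ones 26163) ip12 12) = true := by decide +kernel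

theorem rot12_12r : band (Rule.ok (2 * 11) EX RL ⟨12 :: [10, 9, 8, 13, 10], [18, 22], 34, true⟩) (lall (memL L) [10, 9, 8, 13, 10]) = true := by decide +kernel

theorem rot12_13 : T.rot 12 [8, 9, 10, 13, 10] (sel (ones 26163) ip12 13) = true := by decide +kernel

theorem rot12_13r : band (Rule.ok (2 * 11) EX RL ⟨12 :: [8, 9, 10, 13, 10], [16, 14, 22], 34, false⟩) (lall (memL L) [8, 9, 10, 13, 10]) = true := by decide +kernel

theorem cov12 : T.cover 12 [(sel (ones 26163) ip12 1), (sel (ones 26163) ip12 2), (sel (ones 26163) ip12 3), (sel (ones 26163) ip12 4), (sel (ones 26163) ip12 5), (sel (ones 26163) ip12 6), (sel (ones 26163) ip12 7), (sel (ones 26163) ip12 8), (sel (ones 26163) ip12 9), (sel (ones 26163) ip12 10), (sel (ones 26163) ip12 11), (sel (ones 26163) ip12 12), (sel (ones 26163) ip12 13), 1] = true := by decide +kernel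

theorem tl12 : T.treeLt 15 12 = true := by decide +kernel

theorem rot13_1 : T.rot 13 [12] (sel (ones 26163) ip13 1) = true := by decide +kernel

theorem rot13_1r : band (Rule.ok (2 * 11) EX RL ⟨13 :: [12], [], 39, false⟩) (lall (memL L) [12]) = true := by decide +kernel

theorem rot13_2 : T.rot 13 [13, 13] (sel (ones 26163) ip13 2) = true := by decide +kernel

theorem rot13_2r : band (Rule.ok (2 * 11) EX RL ⟨13 :: [13, 13], [], 10, false⟩) (lall (memL L) [13, 13]) = true := by decide +kernel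

theorem rot13_3 : T.rot 13 [7, 13, 7] (sel (ones 26163) ip13 3) = true := by decide +kernel

theorem rot13_3r : band (Rule.ok (2 * 11) EX RL ⟨13 :: [7, 13, 7], [], 13, false⟩) (lall (memL L) [7, 13, 7]) = true := by decide +kernel

theorem rot13_4 : T.rot 13 [1, 12, 1] (sel (ones 26163) ip13 4) = true := by decide +kernel

theorem rot13_4r : band (Rule.ok (2 * 11) EX RL ⟨13 :: [1, 12, 1], [], 22, false⟩) (lall (memL L) [1, 12, 1]) = true := by decide +kernel

theorem rot13_5 : T.rot 13 [2, 12, 3] (sel (ones 26163) ip13 5) = true := by decide +kernel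

theorem rot13_5r : band (Rule.ok (2 * 11) EX RL ⟨13 :: [2, 12, 3], [], 23, false⟩) (lall (memL L) [2, 12, 3]) = true := by decide +kernel

theorem rot13_6 : T.rot 13 [3, 12, 4] (sel (ones 26163) ip13 6) = true := by decide +kernel

theorem rot13_6r : band (Rule.ok (2 * 11) EX RL ⟨13 :: [3, 12, 4], [], 24, false⟩) (lall (memL L) [3, 12, 4]) = true := by decide +kernel

theorem rot13_7 : T.rot 13 [4, 12, 2] (sel (ones 26163) ip13 7) = true := by decide +kernel

theorem rot13_7r : band (Rule.ok (2 * 11) EX RL ⟨13 :: [4, 12, 2], [], 25, false⟩) (lall (memL L) [4, 12, 2]) = true := by decide +kernel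

theorem rot13_8 : T.rot 13 [5, 12, 5] (sel (ones 26163) ip13 8) = true := by decide +kernel

theorem rot13_8r : band (Rule.ok (2 * 11) EX RL ⟨13 :: [5, 12, 5], [], 26, false⟩) (lall (memL L) [5, 12, 5]) = true := by decide +kernel

theorem rot13_9 : T.rot 13 [9, 12, 9] (sel (ones 26163) ip13 9) = true := by decide +kernel

theorem rot13_9r : band (Rule.ok (2 * 11) EX RL ⟨13 :: [9, 12, 9], [], 29, true⟩) (lall (memL L) [9, 12, 9]) = true := by decide +kernel

theorem rot13_10 : T.rot 13 [6, 13, 6, 13, 6] (sel (ones 26163) ip13 10) = true := by decide +kernel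

theorem rot13_10r : band (Rule.ok (2 * 11) EX RL ⟨13 :: [6, 13, 6, 13, 6], [], 11, false⟩) (lall (memL L) [6, 13, 6, 13, 6]) = true := by decide +kernel

theorem rot13_11 : T.rot 13 [6, 12, 10, 1, 10] (sel (ones 26163) ip13 11) = true := by decide +kernel

theorem rot13_11r : band (Rule.ok (2 * 11) EX RL ⟨13 :: [6, 12, 10, 1, 10], [], 33, true⟩) (lall (memL L) [6, 12, 10, 1, 10]) = true := by decide +kernel

theorem rot13_12 : T.rot 13 [10, 12, 10, 9, 8] (sel (ones 26163) ip13 12) = true := by decide +kernel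

theorem rot13_12r : band (Rule.ok (2 * 11) EX RL ⟨13 :: [10, 12, 10, 9, 8], [16, 14], 34, true⟩) (lall (memL L) [10, 12, 10, 9, 8]) = true := by decide +kernel

theorem rot13_13 : T.rot 13 [10, 12, 8, 9, 10] (sel (ones 26163) ip13 13) = true := by decide +kernel

theorem rot13_13r : band (Rule.ok (2 * 11) EX RL ⟨13 :: [10, 12, 8, 9, 10], [18], 34, false⟩) (lall (memL L) [10, 12, 8, 9, 10]) = true := by decide +kernel

theorem cov13 : T.cover 13 [(sel (ones 26163) ip13 1), (sel (ones 26163) ip13 2), (sel (ones 26163) ip13 3), (sel (ones 26163) ip13 4), (sel (ones 26163) ip13 5), (sel (ones 26163) ip13 6), (sel (ones 26163) ip13 7), (sel (ones 26163) ip13 8), (sel (ones 26163) ip13 9), (sel (ones 26163) ip13 10), (sel (ones 26163) ip13 11), (sel (ones 26163) ip13 12), (sel (ones 26163) ip13 13)] = true := by decide +kernel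

theorem tl13 : T.treeLt 15 13 = true := by decide +kernel

end Cfsg.Agent.Spor.J3h
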